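-- Team project FOT (S3999): package [SL25] (helper68).
import Mathlib
import Cfsg.Agent.Lib.Helper50.FOT.Defs
import Cfsg.Agent.Lib.Helper23.FOT.Cnt5
import Cfsg.Agent.Lib.Helper5.PSL2
import Cfsg.Agent.S3359

set_option autoImplicit false

namespace Cfsg.Agent.Lib.Helper68.FOT

open Cfsg.Agent.Lib.Helper50.FOT
open scoped Pointwise

universe u

/-- transport of a Frobenius complement along an isomorphism -/
theorem frobCompl_map {G G' : Type*} [Group G] [Group G'] (e : G ≃* G') (H : Subgroup G)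
    (h : Cfsg.IsFrobeniusComplement H) : Cfsg.IsFrobeniusComplement (H.map (e : G →* G')) := by
  obtain ⟨h1, h2, h3⟩ := h
  refine ⟨?_, ?_, ?_⟩
  · intro hb
    apply h1
    rw [Subgroup.eq_bot_iff_forall] at hb ⊢
    intro x hx
    have h' := hb (e x) (Subgroup.mem_map_of_mem (e : G →* G') hx)
    exact e.injective (by rw [map_one]; exact h')
  · intro ht
    apply h2
    rw [Subgroup.eq_top_iff'] at ht ⊢
    intro x
    obtain ⟨y, hy, hyx⟩ := Subgroup.mem_map.mp (ht (e x))
    have hyx' : y = x := e.injective hyx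
    rw [← hyx']; exact hy
  · intro g' hg'
    rw [Subgroup.eq_bot_iff_forall]
    intro z hz
    obtain ⟨hz1, hz2⟩ := Subgroup.mem_inf.mp hz
    obtain ⟨a, ha, rfl⟩ := Subgroup.mem_map.mp hz1
    obtain ⟨w, hw, hwz⟩ := (Subgroup.mem_smul_pointwise_iff_exists _ _ _).mp hz2
    obtain ⟨b, hb, rfl⟩ := Subgroup.mem_map.mp hw
    have hg : e.symm g' ∉ H := by
      intro hh
      apply hg'
      have h' := Subgroup.mem_map_of_mem (e : G →* G') hh
      simpa using h'
    have hwz' : g' * e b * g'⁻¹ = e a := by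
      simpa [MulAut.smul_def, MulAut.conj_apply] using hwz
    have hab : a = e.symm g' * b * (e.symm g')⁻¹ := by
      apply e.injective
      rw [map_mul, map_mul, map_inv, e.apply_symm_apply, hwz']
    have ha2 : a ∈ H ⊓ MulAut.conj (e.symm g') • H := by
      refine Subgroup.mem_inf.mpr ⟨ha, (Subgroup.mem_smul_pointwise_iff_exists _ _ _).mpr
        ⟨b, hb, ?_⟩⟩
      rw [hab]; simp [MulAut.smul_def, MulAut.conj_apply]
    rw [h3 _ hg, Subgroup.mem_bot] at ha2
    rw [ha2]; simp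

/-! ### `SL(2, 5)` -/

/-- upper unitriangular element -/
def uEl : Matrix.SpecialLinearGroup (Fin 2) (ZMod 5) := ⟨!![1, 1; 0, 1], by decide⟩

/-- lower unitriangular element -/
def lEl : Matrix.SpecialLinearGroup (Fin 2) (ZMod 5) := ⟨!![1, 0; 1, 1], by decide⟩

theorem u_pow : uEl ^ 5 = 1 := by decide +kernel
theorem l_pow : lEl ^ 5 = 1 := by decide +kernel
theorem ul_pow : (uEl * lEl) ^ 5 ≠ 1 := by decide +kernel

theorem card_sl25 : Nat.card (Matrix.SpecialLinearGroup (Fin 2) (ZMod 5)) = 120 := by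
  haveI : Fact (Nat.Prime 5) := ⟨by norm_num⟩
  have h := Cfsg.Agent.Lib.Helper5.card_SL2 (F := ZMod 5)
  rw [ZMod.card] at h
  exact h.trans (by norm_num)

theorem sylow5_card : Nat.card (Sylow 5 (Matrix.SpecialLinearGroup (Fin 2) (ZMod 5))) = 6 := by
  haveI : Fact (Nat.Prime 5) := ⟨by norm_num⟩
  haveI : Finite (Matrix.SpecialLinearGroup (Fin 2) (ZMod 5)) :=
    Nat.finite_of_card_ne_zero (by rw [card_sl25]; norm_num)
  have hmod := card_sylow_modEq_one 5 (Matrix.SpecialLinearGroup (Fin 2) (ZMod 5))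
  obtain ⟨P⟩ : Nonempty (Sylow 5 (Matrix.SpecialLinearGroup (Fin 2) (ZMod 5))) := inferInstance
  have hdvd := Sylow.card_dvd_index P
  obtain ⟨k, hk⟩ := IsPGroup.iff_card.mp P.isPGroup'
  have hmul := Subgroup.card_mul_index (P : Subgroup (Matrix.SpecialLinearGroup (Fin 2) (ZMod 5)))
  rw [card_sl25] at hmul
  have h5P : 5 ∣ Nat.card P := P.dvd_card_of_dvd_card (by rw [card_sl25]; norm_num)
  have hk1 : k = 1 := by
    have hkpos : k ≠ 0 := by
      intro h0; rw [h0, pow_zero] at hk; rw [hk] at h5P; omega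
    have hk2 : k < 2 := by
      by_contra hge
      have h25 : 25 ∣ Nat.card P := by
        rw [hk]; exact pow_dvd_pow 5 (by omega : 2 ≤ k)
      have : 25 ∣ 120 := by rw [← hmul]; exact Dvd.dvd.mul_right h25 _
      omega
    omega
  rw [hk1, pow_one] at hk
  have hidx : (P : Subgroup (Matrix.SpecialLinearGroup (Fin 2) (ZMod 5))).index = 24 := by
    rw [hk] at hmul; omega
  rw [hidx] at hdvd
  have hle : Nat.card (Sylow 5 (Matrix.SpecialLinearGroup (Fin 2) (ZMod 5))) ≤ 24 :=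
    Nat.le_of_dvd (by norm_num) hdvd
  have hm : Nat.card (Sylow 5 (Matrix.SpecialLinearGroup (Fin 2) (ZMod 5))) % 5 = 1 := hmod
  have hne : Nat.card (Sylow 5 (Matrix.SpecialLinearGroup (Fin 2) (ZMod 5))) ≠ 1 := by
    intro hn1
    haveI : Subsingleton (Sylow 5 (Matrix.SpecialLinearGroup (Fin 2) (ZMod 5))) :=
      (Nat.card_eq_one_iff_unique.mp hn1).1
    have hin : ∀ g : Matrix.SpecialLinearGroup (Fin 2) (ZMod 5), g ^ 5 = 1 → g ∈ P := by
      intro g hg5
      have hp : IsPGroup 5 (Subgroup.zpowers g) := by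
        rintro ⟨x, hx⟩
        obtain ⟨m, rfl⟩ := Subgroup.mem_zpowers_iff.mp hx
        refine ⟨1, Subtype.ext ?_⟩
        show (g ^ m) ^ 5 ^ 1 = 1
        rw [pow_one, ← zpow_natCast, ← zpow_mul, mul_comm, zpow_mul, zpow_natCast, hg5, one_zpow]
      obtain ⟨Q, hQ⟩ := hp.exists_le_sylow
      rw [Subsingleton.elim P Q]
      exact hQ (Subgroup.mem_zpowers g)
    have hul : uEl * lEl ∈ P := P.mul_mem (hin _ u_pow) (hin _ l_pow)
    have h1 : (⟨uEl * lEl, hul⟩ : P) ^ Nat.card P = 1 := pow_card_eq_one'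
    rw [hk] at h1
    exact ul_pow (congrArg Subtype.val h1)
  generalize Nat.card (Sylow 5 (Matrix.SpecialLinearGroup (Fin 2) (ZMod 5))) = n at hdvd hle hm hne ⊢
  interval_cases n <;> omega

theorem count_sl25 :
    Nat.card {g : Matrix.SpecialLinearGroup (Fin 2) (ZMod 5) // orderOf g = 5} = 24 := by
  haveI : Finite (Matrix.SpecialLinearGroup (Fin 2) (ZMod 5)) :=
    Nat.finite_of_card_ne_zero (by rw [card_sl25]; norm_num)
  have h := Cfsg.Agent.Lib.Helper23.FOT.pkgCnt5.{0} (Matrix.SpecialLinearGroup (Fin 2) (ZMod 5))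
    (by rw [card_sl25]; norm_num) (by rw [card_sl25]; norm_num)
  rw [h, sylow5_card]

/-- [SL25] -/
theorem pkgSL25 : PkgSL25.{u} := by
  intro X _ _ C hC hns
  have hFC : ∃ (L : Type) (_ : Group L) (_ : Finite L) (H : Subgroup L),
      Cfsg.IsFrobeniusComplement H ∧ Nonempty (↥C ≃* H) := by
    haveI : Small.{0} X := inferInstance
    let me : X ≃* Shrink.{0} X := (Shrink.mulEquiv (α := X)).symm
    exact ⟨Shrink.{0} X, inferInstance, Finite.of_equiv X (equivShrink X),
      C.map (me : X →* Shrink.{0} X), frobCompl_map me C hC, ⟨me.subgroupMap C⟩⟩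
  obtain ⟨G₀, hG₀n, hidx, S, M, hSM, hdisj, hcomm, ⟨e⟩, _, hcop⟩ :=
    Cfsg.Agent.S3359.result (G := ↥C) hns hFC
  have hS120 : Nat.card S = 120 := by rw [Nat.card_congr e.toEquiv, card_sl25]
  have hg5 : Nat.gcd (Nat.card M) 5 = 1 :=
    Nat.Coprime.coprime_dvd_right (by norm_num : 5 ∣ 30) hcop
  have h5M : ¬ 5 ∣ Nat.card M := by
    intro h
    have h2 : 5 ∣ Nat.gcd (Nat.card M) 5 := Nat.dvd_gcd h (dvd_refl 5)
    rw [hg5] at h2
    omega
  let φ : ↥S × ↥M →* ↥C := MonoidHom.noncommCoprod S.subtype M.subtype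
    (fun s x => hcomm s.1 s.2 x.1 x.2)
  have hφinj : Function.Injective φ :=
    (MonoidHom.noncommCoprod_injective _ _ _).mpr
      ⟨Subgroup.subtype_injective _, Subgroup.subtype_injective _, by
        rw [Subgroup.range_subtype, Subgroup.range_subtype, disjoint_iff]
        exact hdisj⟩
  have hφrange : φ.range = G₀ := by
    have h := MonoidHom.noncommCoprod_range S.subtype M.subtype
      (fun s x => hcomm s.1 s.2 x.1 x.2)
    rw [Subgroup.range_subtype, Subgroup.range_subtype, hSM] at h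
    exact h
  have hG₀card : Nat.card G₀ = 120 * Nat.card M := by
    rw [← hφrange, ← Nat.card_congr (MonoidHom.ofInjective hφinj).toEquiv, Nat.card_prod, hS120]
  have hCcard : Nat.card C = 120 * Nat.card M * G₀.index := by
    rw [← hG₀card]; exact (Subgroup.card_mul_index G₀).symm
  have h5 : 5 ∣ Nat.card C := by
    rw [hCcard]
    exact Dvd.dvd.mul_right (Dvd.dvd.mul_right (by norm_num) _) _
  have h25 : ¬ 25 ∣ Nat.card C := by
    rw [hCcard]
    rcases hidx with h | h <;> rw [h] <;> omega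
  have key : ∀ y : ↥C, orderOf y = 5 → y ∈ S := by
    intro y hy
    have hy5 : y ^ 5 = 1 := by rw [← hy]; exact pow_orderOf_eq_one y
    have hyG : y ∈ G₀ := by
      rcases hidx with h | h
      · rw [Subgroup.index_eq_one.mp h]; exact Subgroup.mem_top y
      · have h2 := Subgroup.sq_mem_of_index_two h y
        have h6 : y = (y ^ 2) ^ 3 := by
          rw [← pow_mul, show 2 * 3 = 5 + 1 from rfl, pow_add, hy5, one_mul, pow_one]
        rw [h6]; exact G₀.pow_mem h2 3
    rw [← hφrange] at hyG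
    obtain ⟨⟨s, x⟩, hsx⟩ := hyG
    have hsx' : (s : ↥C) * (x : ↥C) = y := hsx
    have hcomm' : Commute (s : ↥C) (x : ↥C) := hcomm s.1 s.2 x.1 x.2
    have h1 : (s : ↥C) ^ 5 * (x : ↥C) ^ 5 = 1 := by rw [← hcomm'.mul_pow, hsx', hy5]
    have hx5mem : (x : ↥C) ^ 5 ∈ S ⊓ M := by
      refine Subgroup.mem_inf.mpr ⟨?_, M.pow_mem x.2 5⟩
      have h' : (x : ↥C) ^ 5 = ((s : ↥C) ^ 5)⁻¹ := eq_inv_of_mul_eq_one_right h1
      rw [h']; exact S.inv_mem (S.pow_mem s.2 5)
    rw [hdisj, Subgroup.mem_bot] at hx5mem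
    have hx1 : x = 1 := by
      have hx5 : x ^ 5 = 1 := Subtype.ext hx5mem
      have ho : orderOf x ∣ 5 := orderOf_dvd_of_pow_eq_one hx5
      have ho2 : orderOf x ∣ Nat.card M := orderOf_dvd_natCard x
      have hd := Nat.dvd_gcd ho2 ho
      rw [hg5] at hd
      exact orderOf_eq_one_iff.mp (Nat.dvd_one.mp hd)
    rw [hx1] at hsx'
    rw [← hsx']
    simp
  have hcount : Nat.card {y : ↥C // orderOf y = 5} =
      Nat.card {g : Matrix.SpecialLinearGroup (Fin 2) (ZMod 5) // orderOf g = 5} := by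
    symm
    let f : {g : Matrix.SpecialLinearGroup (Fin 2) (ZMod 5) // orderOf g = 5} →
        {y : ↥C // orderOf y = 5} := fun g =>
      ⟨((e.symm g.1 : ↥S) : ↥C), by rw [Subgroup.orderOf_coe, MulEquiv.orderOf_eq, g.2]⟩
    apply Nat.card_eq_of_bijective f
    constructor
    · intro a b hab
      have h1 : (f a).1 = (f b).1 := congrArg Subtype.val hab
      have h2 : e.symm a.1 = e.symm b.1 := Subtype.ext h1
      exact Subtype.ext (e.symm.injective h2)
    · intro y
      have hyS := key y.1 y.2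
      refine ⟨⟨e ⟨y.1, hyS⟩, ?_⟩, ?_⟩
      · rw [MulEquiv.orderOf_eq, ← Subgroup.orderOf_coe]; exact y.2
      · apply Subtype.ext
        simp [f]
  exact ⟨by rw [hcount, count_sl25], h5, h25⟩

end Cfsg.Agent.Lib.Helper68.FOT
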